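import Mathlib

/-!
# `H₁` of the naive cotangent complex and finite separable field extensions
-/

universe u

open TensorProduct

namespace Groth.Agent.ArtFunSep

noncomputable section

set_option backward.isDefEq.respectTransparency false

open Algebra

/-- The hom from the self-generated extension to any extension. -/
def homSelf {R S : Type u} [CommRing R] [CommRing S] [Algebra R S] (P : Extension.{u} R S) :
    (Generators.self R S).toExtension.Hom P where
  toRingHom := (MvPolynomial.aeval P.σ).toRingHom
  toRingHom_algebraMap := (MvPolynomial.aeval P.σ).commutes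
  algebraMap_toRingHom := by
    have : (IsScalarTower.toAlgHom R P.Ring S).comp (MvPolynomial.aeval P.σ) =
        IsScalarTower.toAlgHom _ (Generators.self R S).toExtension.Ring _ := by
      ext i
      change _ = algebraMap (Generators.self R S).Ring _ (.X i)
      simp
    exact DFunLike.congr_fun this

theorem bijective_map_homSelf {R S : Type u} [CommRing R] [CommRing S] [Algebra R S]
    (P : Extension.{u} R S) [FormallySmooth R P.Ring] :
    Function.Bijective (Extension.H1Cotangent.map (homSelf P)) := by
  haveI : FormallySmooth R (Generators.self R S).toExtension.Ring :=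
    inferInstanceAs (FormallySmooth R (MvPolynomial _ _))
  rw [show (Extension.H1Cotangent.map (homSelf P) : _ → _) =
      Extension.H1Cotangent.equivOfFormallySmooth _ P from
    funext fun x => (Extension.H1Cotangent.equivOfFormallySmooth_apply (homSelf P) x).symm]
  exact LinearEquiv.bijective _

/-- For flat `W` over `R`, `W ⊗ I → I W` is bijective. -/
theorem bijective_liftBaseChange_ideal {R W : Type u} [CommRing R] [CommRing W] [Algebra R W]
    [Module.Flat R W] (I : Ideal R) (K : Ideal W) (hK : K ≤ I.map (algebraMap R W))
    (l : I →ₗ[R] K) (hl : ∀ x, (l x : W) = algebraMap R W x) :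
    Function.Bijective (l.liftBaseChange W) := by
  constructor
  · have h0 : ∀ z : W ⊗[R] I, ((l.liftBaseChange W z : K) : W) =
        TensorProduct.rid R W ((Submodule.subtype I).lTensor W z) := by
      intro z
      induction z with
      | zero => simp
      | add x y hx hy => simp only [map_add, Submodule.coe_add, hx, hy]
      | tmul a b => simp [hl, Algebra.smul_def, mul_comm]
    intro x y hxy
    apply Module.Flat.lTensor_preserves_injective_linearMap (M := W)
      (Submodule.subtype I) (Submodule.injective_subtype _)
    apply (TensorProduct.rid R W).injective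
    rw [← h0, ← h0, hxy]
  · rintro ⟨x, hx⟩
    suffices ∀ (y : W), y ∈ Submodule.span W ((algebraMap R W) '' (I : Set R)) →
        ∃ z : W ⊗[R] I, ((l.liftBaseChange W z : K) : W) = y by
      obtain ⟨z, hz⟩ := this x (hK hx)
      exact ⟨z, Subtype.ext hz⟩
    intro y hy
    induction hy using Submodule.span_induction with
    | mem y hy =>
      obtain ⟨a, ha, rfl⟩ := hy
      exact ⟨1 ⊗ₜ ⟨a, ha⟩, by simp [hl]⟩
    | zero => exact ⟨0, by simp⟩
    | add _ _ _ _ h₁ h₂ =>
      obtain ⟨z₁, rfl⟩ := h₁
      obtain ⟨z₂, rfl⟩ := h₂
      exact ⟨z₁ + z₂, by simp⟩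
    | smul c _ _ h =>
      obtain ⟨z, rfl⟩ := h
      exact ⟨c • z, by simp⟩

/-- If `R → S` is surjective onto a field and `S → T` is finite separable, then
`T ⊗ H₁(L_{S/R}) → H₁(L_{T/R})` is bijective. -/
theorem bijective_liftBaseChange_map {R S T : Type u} [CommRing R] [Field S] [Field T]
    [Algebra R S] [Algebra R T] [Algebra S T] [IsScalarTower R S T]
    (hS : Function.Surjective (algebraMap R S)) [FiniteDimensional S T] [Algebra.IsSeparable S T] :
    Function.Bijective ((Algebra.H1Cotangent.map R R S T).liftBaseChange T) := by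
  let pb := Field.powerBasisOfFiniteOfSeparable S T
  have hint : IsIntegral S pb.gen := Algebra.IsIntegral.isIntegral _
  have hlifts : minpoly S pb.gen ∈ Polynomial.lifts (algebraMap R S) := by
    rw [Polynomial.lifts_iff_coeff_lifts]
    exact fun n => hS _
  obtain ⟨F, hF, -, hFm⟩ :=
    Polynomial.lifts_and_natDegree_eq_and_monic hlifts (minpoly.monic hint)
  let W : StandardEtalePair R :=
    ⟨F, hFm, Polynomial.derivative F, ⟨1, 0, 1, by simp⟩⟩
  have hW : W.HasMap pb.gen := by
    refine ⟨?_, ?_⟩
    · show Polynomial.aeval pb.gen F = 0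
      rw [← Polynomial.aeval_map_algebraMap S, hF, minpoly.aeval]
    · show IsUnit (Polynomial.aeval pb.gen (Polynomial.derivative F))
      rw [← Polynomial.aeval_map_algebraMap S, ← Polynomial.derivative_map, hF, isUnit_iff_ne_zero]
      exact Polynomial.Separable.aeval_derivative_ne_zero
        (Algebra.IsSeparable.isSeparable S pb.gen) (minpoly.aeval _ _)
  let fQ : W.Ring →ₐ[R] T := W.lift pb.gen hW
  have hfQ : Function.Surjective fQ := by
    intro t
    obtain ⟨p, rfl⟩ : ∃ p : Polynomial S, Polynomial.aeval pb.gen p = t := by
      have : t ∈ (Polynomial.aeval (R := S) pb.gen).range := by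
        rw [← Algebra.adjoin_singleton_eq_range_aeval, pb.adjoin_gen_eq_top]
        trivial
      exact this
    obtain ⟨p', rfl⟩ := Polynomial.map_surjective (algebraMap R S) hS p
    refine ⟨Polynomial.aeval W.X p', ?_⟩
    rw [Polynomial.aeval_map_algebraMap, ← Polynomial.aeval_algHom_apply, StandardEtalePair.lift_X]
  let P : Extension.{u} R S := .ofSurjective (Algebra.ofId R S) hS
  let Q : Extension.{u} R T := .ofSurjective fQ hfQ
  letI alg : Algebra P.Ring Q.Ring := (inferInstance : Algebra R W.Ring)
  let f : P.Hom Q :=
  { toRingHom := algebraMap R W.Ring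
    toRingHom_algebraMap := fun x => rfl
    algebraMap_toRingHom := fun x => by
      show fQ (algebraMap R W.Ring x) = algebraMap S T (algebraMap R S x)
      rw [fQ.commutes]
      exact IsScalarTower.algebraMap_apply R S T x }
  haveI : FormallySmooth R P.Ring := inferInstanceAs (FormallySmooth R R)
  haveI : FormallySmooth R Q.Ring := inferInstanceAs (FormallySmooth R W.Ring)
  haveI : Module.Flat R W.Ring := inferInstance
  have hker : RingHom.ker fQ.toRingHom ≤
      (RingHom.ker (algebraMap R S)).map (algebraMap R W.Ring) := by
    let J : Ideal W.Ring := (RingHom.ker (algebraMap R S)).map (algebraMap R W.Ring)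
    let φ : S →+* (W.Ring ⧸ J) := RingHom.liftOfSurjective (algebraMap R S) hS
      ⟨(Ideal.Quotient.mk J).comp (algebraMap R W.Ring), fun a ha =>
        Ideal.Quotient.eq_zero_iff_mem.mpr (Ideal.mem_map_of_mem _ ha)⟩
    letI : Algebra S (W.Ring ⧸ J) := φ.toAlgebra
    haveI : IsScalarTower R S (W.Ring ⧸ J) := IsScalarTower.of_algebraMap_eq fun a => by
      show algebraMap R (W.Ring ⧸ J) a = φ (algebraMap R S a)
      rw [RingHom.liftOfSurjective_comp_apply]
      rfl
    have hroot : Polynomial.aeval (Ideal.Quotient.mk J W.X) (minpoly S pb.gen) = 0 := by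
      rw [← hF, Polynomial.aeval_map_algebraMap, ← Ideal.Quotient.mkₐ_eq_mk R,
        Polynomial.aeval_algHom_apply, show Polynomial.aeval W.X F = 0 from
          StandardEtalePair.hasMap_X.1, map_zero]
    let σ : T →ₐ[R] (W.Ring ⧸ J) := (pb.lift (Ideal.Quotient.mk J W.X) hroot).restrictScalars R
    have hσ : σ.comp fQ = Ideal.Quotient.mkₐ R J := by
      refine W.hom_ext ?_
      show σ (fQ W.X) = Ideal.Quotient.mk J W.X
      rw [show fQ W.X = pb.gen from StandardEtalePair.lift_X ..]
      exact pb.lift_gen _ hroot
    intro x hx
    have hx' : fQ x = 0 := hx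
    show x ∈ J
    rw [← Ideal.Quotient.eq_zero_iff_mem, ← Ideal.Quotient.mkₐ_eq_mk R, ← hσ,
      AlgHom.comp_apply, hx', map_zero]
  have H₂ : Function.Bijective ((f.mapKer rfl).liftBaseChange Q.Ring) := by
    haveI : Module.Flat P.Ring Q.Ring := inferInstanceAs (Module.Flat R W.Ring)
    exact bijective_liftBaseChange_ideal P.ker Q.ker hker _ (fun x => rfl)
  have H₁ : f.toRingHom.FormallyEtale :=
    RingHom.formallyEtale_algebraMap.mpr (inferInstanceAs (FormallyEtale R W.Ring))
  let e := Extension.tensorH1CotangentOfFormallyEtale f rfl H₁ H₂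
  have he : Function.Bijective ((Extension.H1Cotangent.map f).liftBaseChange T) := e.bijective
  let a := LinearEquiv.ofBijective _ (bijective_map_homSelf P)
  have hb := bijective_map_homSelf Q
  have key : (Extension.H1Cotangent.map (homSelf Q) : _ → _) ∘
      ((Algebra.H1Cotangent.map R R S T).liftBaseChange T) =
      ((Extension.H1Cotangent.map f).liftBaseChange T) ∘ (a.baseChange S T) := by
    funext z
    induction z with
    | zero => simp
    | add x y hx hy => simp only [Function.comp_apply, map_add] at hx hy ⊢; rw [hx, hy]
    | tmul t x =>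
      simp only [Function.comp_apply, LinearMap.liftBaseChange_tmul, map_smul]
      rw [show (a.baseChange S T) (t ⊗ₜ x) = t ⊗ₜ (Extension.H1Cotangent.map (homSelf P) x) from rfl,
        LinearMap.liftBaseChange_tmul, Algebra.H1Cotangent.map,
        ← Extension.H1Cotangent.map_comp_apply, ← Extension.H1Cotangent.map_comp_apply,
        Extension.H1Cotangent.map_eq]
  have h2 : Function.Bijective ((Extension.H1Cotangent.map (homSelf Q) : _ → _) ∘
      ((Algebra.H1Cotangent.map R R S T).liftBaseChange T)) := by
    rw [key]
    exact he.comp (a.baseChange S T).bijective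
  exact (Function.Bijective.of_comp_iff' hb _).mp h2

end

end Groth.Agent.ArtFunSep
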